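import Cfsg.Agent.Lib.SL2Module.Spread
import Cfsg.Agent.Lib.PMinFF.Big.SemiCount

/-!
A group of additive maps of the plane over a finite field that contains `SL₂` and whose `p`-subgroups
can be conjugated into the normalizer of `SL₂`: root groups and lines.
-/

set_option autoImplicit false
set_option linter.unusedSectionVars false
set_option linter.style.haveILetI false

namespace CfsgLib.SLTwoEmbedded

open CfsgLib.SL2 CfsgLib.SL2Module
open scoped MatrixGroups

universe u

/-- The setting. -/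
structure Emb (p : ℕ) (G : Type u) [Group G] (F : Type) [Field F] where
  prime_zero : (p : F) = 0
  η : G →* AddMonoid.End (Fin 2 → F)
  inj : Function.Injective η
  L : Subgroup G
  ρ : ↥L ≃* SL(2, F)
  act : ∀ (l : ↥L) x, η l x = ((ρ l : SL(2, F)) : Matrix (Fin 2) (Fin 2) F).mulVec x
  syl : ∀ Q : Subgroup G, IsPGroup p Q → ∃ g : G, ∀ x ∈ Q, g * x * g⁻¹ ∈ Subgroup.normalizer (L : Set G)

namespace Emb

variable {p : ℕ} {G : Type u} [Group G] {F : Type} [Field F] [Finite F] (E : Emb p G F)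

theorem comp (g h : G) (x : Fin 2 → F) : E.η (g * h) x = E.η g (E.η h x) := by rw [map_mul]; rfl

theorem one_app (x : Fin 2 → F) : E.η 1 x = x := by rw [map_one]; rfl

theorem inv_app (g : G) (x : Fin 2 → F) : E.η g⁻¹ (E.η g x) = x := by
  rw [← E.comp, inv_mul_cancel, E.one_app]

theorem app_inv (g : G) (x : Fin 2 → F) : E.η g (E.η g⁻¹ x) = x := by
  rw [← E.comp, mul_inv_cancel, E.one_app]

theorem app_inj (g : G) {x y : Fin 2 → F} (h : E.η g x = E.η g y) : x = y := by
  rw [← E.inv_app g x, h, E.inv_app]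

theorem eq_of_app {g h : G} (e : ∀ x, E.η g x = E.η h x) : g = h :=
  E.inj (AddMonoidHom.ext e)

/-- An element of `L` given by a matrix. -/
def el : SL(2, F) →* G := E.L.subtype.comp E.ρ.symm.toMonoidHom

theorem el_mem (y : SL(2, F)) : E.el y ∈ E.L := (E.ρ.symm y).2

theorem exists_el {g : G} (hg : g ∈ E.L) : ∃ y, E.el y = g :=
  ⟨E.ρ ⟨g, hg⟩, by simp [el]⟩

theorem el_app (y : SL(2, F)) (x : Fin 2 → F) :
    E.η (E.el y) x = (y : Matrix (Fin 2) (Fin 2) F).mulVec x := by
  show E.η ((E.ρ.symm y : ↥E.L) : G) x = _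
  rw [E.act, MulEquiv.apply_symm_apply]

theorem up_app (t : F) (x : Fin 2 → F) : E.η (E.el (up t)) x = ![x 0 + t * x 1, x 1] := by
  rw [E.el_app, Spread.up_mulVec]

theorem lo_app (t : F) (x : Fin 2 → F) : E.η (E.el (lo t)) x = ![x 0, x 1 + t * x 0] := by
  rw [E.el_app, Spread.lo_mulVec]

/-- The additive maps commuting with `L` are the scalars. -/
theorem scalar_of_comm (f : (Fin 2 → F) →+ (Fin 2 → F))
    (h : ∀ y : SL(2, F), ∀ x, f (E.η (E.el y) x) = E.η (E.el y) (f x)) :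
    ∃ a : F, ∀ x, f x = a • x := by
  set a := f ![1, 0] 0
  have hfix : ∀ t, f ![t, 0] 1 = 0 := fun t => by
    have h1 := h (up 1) ![t, 0]
    rw [E.up_app, E.up_app] at h1
    have h2 := congrFun h1 0
    simpa using h2
  have hw : ∀ x, f (E.η (E.el wm) x) = E.η (E.el wm) (f x) := h wm
  have wapp : ∀ x, E.η (E.el wm) x = ![x 1, -x 0] := fun x => by
    rw [E.el_app, wm_coe]; funext i; fin_cases i <;> simp [Matrix.mulVec, dotProduct, Fin.sum_univ_two]
  have hsec : ∀ t, f ![0, t] = ![0, f ![t, 0] 0] := fun t => by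
    have h1 := hw ![0, t]
    rw [wapp, wapp, Matrix.cons_val_one, Matrix.cons_val_fin_one, Matrix.cons_val_zero, neg_zero] at h1
    have e0 := congrFun h1 0
    have e1 := congrFun h1 1
    simp only [Matrix.cons_val_zero, Matrix.cons_val_one, Matrix.cons_val_fin_one, hfix] at e0 e1
    funext i
    fin_cases i
    · simpa [eq_comm] using e1
    · simpa using e0.symm
  have hlin : ∀ t, f ![t, 0] 0 = a * t := fun t => by
    have h1 := h (up t) ![0, 1]
    rw [E.up_app, E.up_app, hsec, show (![(![0, 1] : Fin 2 → F) 0 + t * (![0, 1] : Fin 2 → F) 1,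
      (![0, 1] : Fin 2 → F) 1] : Fin 2 → F) = ![t, 0] + ![0, 1] by
        funext i; fin_cases i <;> simp, map_add, hsec] at h1
    have h2 := congrFun h1 0
    simp at h2
    rw [mul_comm]
    exact h2
  refine ⟨a, fun x => ?_⟩
  rw [show x = ![x 0, 0] + ![0, x 1] by funext i; fin_cases i <;> simp, map_add, hsec]
  funext i
  fin_cases i
  · simp [hlin]
  · simp [hlin, hfix]

/-- The normalizer of `L` acts semilinearly. -/
theorem semilinear {g : G} (hg : g ∈ Subgroup.normalizer (E.L : Set G)) :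
    ∃ σ : F ≃+* F, ∀ (a : F) x, E.η g (a • x) = σ a • E.η g x := by
  have key : ∀ a : F, ∃ b : F, ∀ x, E.η g (a • x) = b • E.η g x := by
    intro a
    obtain ⟨b, hb⟩ := E.scalar_of_comm (AddMonoidHom.mk' (fun x => E.η g (a • E.η g⁻¹ x))
      fun x y => by rw [map_add, smul_add, map_add]) fun y x => by
      obtain ⟨z, hz⟩ := E.exists_el ((Subgroup.mem_normalizer_iff.1 (inv_mem hg) _).1 (E.el_mem y))
      rw [inv_inv] at hz
      show E.η g (a • E.η g⁻¹ (E.η (E.el y) x)) = E.η (E.el y) (E.η g (a • E.η g⁻¹ x))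
      rw [← E.comp g⁻¹, show g⁻¹ * E.el y = E.el z * g⁻¹ by rw [hz]; group, E.comp (E.el z), E.el_app,
        ← Matrix.mulVec_smul, ← E.el_app, ← E.comp, show g * E.el z = E.el y * g by rw [hz]; group,
        E.comp]
    exact ⟨b, fun x => by simpa [E.inv_app] using hb (E.η g x)⟩
  choose σ hσ using key
  obtain ⟨i, hi⟩ := Function.ne_iff.1 (show E.η g (![1, 0] : Fin 2 → F) ≠ 0 from fun e =>
    one_ne_zero (congrFun (E.app_inj g (e.trans (map_zero _).symm)) 0))
  have huniq : ∀ a b, E.η g (a • ![1, 0]) = b • E.η g ![1, 0] → σ a = b := fun a b h =>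
    mul_right_cancel₀ hi (congrFun ((hσ a _).symm.trans h) i)
  let f : F →+* F :=
    { toFun := σ
      map_one' := huniq _ _ (by rw [one_smul, one_smul])
      map_mul' := fun a b => huniq _ _ (by rw [mul_smul, hσ, hσ, smul_smul])
      map_zero' := huniq _ _ (by rw [zero_smul, zero_smul, map_zero])
      map_add' := fun a b => huniq _ _ (by rw [add_smul, map_add, hσ, hσ, add_smul]) }
  exact ⟨RingEquiv.ofBijective f ⟨f.injective, Finite.injective_iff_surjective.1 f.injective⟩, hσ⟩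

/-- The first axis. -/
def C : AddSubgroup (Fin 2 → F) := (Pi.evalAddMonoidHom (fun _ : Fin 2 => F) 1).ker

theorem mem_C {x : Fin 2 → F} : x ∈ (C : AddSubgroup (Fin 2 → F)) ↔ x 1 = 0 := Iff.rfl

theorem card_C : Nat.card (C : AddSubgroup (Fin 2 → F)) = Nat.card F :=
  Nat.card_eq_of_bijective (fun x => x.1 0) ⟨fun x y h => Subtype.ext (funext fun i => by
    fin_cases i
    · exact h
    · exact x.2.trans y.2.symm), fun t => ⟨⟨![t, 0], by rw [mem_C]; rfl⟩, rfl⟩⟩

/-- The root group of the first axis. -/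
noncomputable def A : Subgroup G := (E.el.comp upperHom).range

theorem mem_A {g : G} : g ∈ E.A ↔ ∃ t, E.el (up t) = g :=
  ⟨fun ⟨t, h⟩ => ⟨t.toAdd, h⟩, fun ⟨t, h⟩ => ⟨Multiplicative.ofAdd t, h⟩⟩

theorem el_injective : Function.Injective E.el := fun _ _ h =>
  E.ρ.symm.injective (Subtype.ext h)

theorem card_A : Nat.card ↥E.A = Nat.card F := by
  refine (Nat.card_eq_of_bijective (fun t : F => (⟨E.el (up t), E.mem_A.2 ⟨t, rfl⟩⟩ : ↥E.A))
    ⟨fun a b h => ?_, fun ⟨g, hg⟩ => ?_⟩).symm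
  · have h' := congrArg (fun M : SL(2, F) => (M : Matrix (Fin 2) (Fin 2) F) 0 1)
      (E.el_injective (congrArg (fun z : ↥E.A => (z : G)) h))
    simpa [up_coe] using h'
  · obtain ⟨t, rfl⟩ := E.mem_A.1 hg
    exact ⟨t, rfl⟩

/-- The stabilizer of the pair of the first axis and its quotient. -/
def Kills (x : G) : Prop := (∀ c ∈ C, E.η x c = c) ∧ ∀ v, E.η x v - v ∈ C

theorem A_kills {x : G} (hx : x ∈ E.A) : E.Kills x := by
  obtain ⟨t, rfl⟩ := E.mem_A.1 hx
  refine ⟨fun c hc => ?_, fun v => ?_⟩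
  · rw [E.up_app]
    have : c 1 = 0 := hc
    funext i; fin_cases i <;> simp [this]
  · rw [mem_C, Pi.sub_apply, E.up_app]; simp

variable [hp : Fact p.Prime] [Finite G]

include E in
theorem smul_p (x : Fin 2 → F) : p • x = 0 := PMinFF.Big.pvec_zero E.prime_zero x

theorem pow_app {x : G} (hx : E.Kills x) (n : ℕ) (v : Fin 2 → F) :
    E.η (x ^ n) v = v + n • (E.η x v - v) := by
  induction n with
  | zero => rw [pow_zero, E.one_app, zero_smul, add_zero]
  | succ n ih => rw [pow_succ', E.comp, ih, map_add, map_nsmul, hx.1 _ (hx.2 v), succ_nsmul]; abel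

/-- Only the elements of the root group act as elations with the first axis. -/
theorem mem_A_of_kills {x : G} (hx : E.Kills x) : x ∈ E.A := by
  let B : Subgroup G :=
    { carrier := {x | E.Kills x}
      one_mem' := ⟨fun c _ => E.one_app c, fun v => by rw [E.one_app, sub_self]; exact zero_mem _⟩
      mul_mem' := fun {a b} ha hb => ⟨fun c hc => by rw [E.comp, hb.1 c hc, ha.1 c hc], fun v => by
        rw [E.comp, ← sub_add_sub_cancel _ (E.η b v) v]
        exact add_mem (ha.2 _) (hb.2 v)⟩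
      inv_mem' := fun {a} ha => ⟨fun c hc => E.app_inj a (by rw [E.app_inv, ha.1 c hc]), fun v => by
        have h := ha.2 (E.η a⁻¹ v)
        rw [E.app_inv] at h
        rw [← neg_sub]
        exact neg_mem h⟩ }
  have hAB : E.A ≤ B := fun a ha => E.A_kills ha
  have hcomm : ∀ a b : ↥B, Commute a b := fun a b => Subtype.ext (E.eq_of_app fun v => by
    show E.η ((a : G) * b) v = E.η ((b : G) * a) v
    have e1 : E.η (b : G) v = v + (E.η (b : G) v - v) := by abel
    have e2 : E.η (a : G) v = v + (E.η (a : G) v - v) := by abel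
    rw [E.comp, E.comp]
    conv_lhs => rw [e1, map_add, a.2.1 _ (b.2.2 v), e2]
    conv_rhs => rw [e2, map_add, b.2.1 _ (a.2.2 v), e1]
    abel)
  have hpow : ∀ b : ↥B, b ^ p = 1 := fun b => Subtype.ext (E.eq_of_app fun v => by
    rw [SubmonoidClass.coe_pow, E.pow_app b.2, E.smul_p, add_zero, OneMemClass.coe_one, E.one_app])
  obtain ⟨g, hg⟩ := E.syl B fun b => ⟨1, by rw [pow_one, hpow]⟩
  let η' : ↥B →* AddMonoid.End (Fin 2 → F) :=
    E.η.comp ((MulAut.conj g).toMonoidHom.comp B.subtype)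
  have hη' : Function.Injective η' := E.inj.comp ((MulAut.conj g).injective.comp B.subtype_injective)
  obtain ⟨hle, -⟩ := PMinFF.Big.semi_count E.prime_zero hcomm hpow η' hη'
    fun b => E.semilinear (hg b b.2)
  have hfix : Nat.card F ≤ Nat.card {v : Fin 2 → F // ∀ b, η' b v = v} := by
    rw [← card_C]
    refine Nat.card_le_card_of_injective (fun c => ⟨E.η g c.1, fun b => ?_⟩)
      fun a b h => Subtype.ext (E.app_inj g (congrArg Subtype.val h))
    show E.η (g * (b : G) * g⁻¹) (E.η g c.1) = E.η g c.1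
    rw [E.comp, E.comp, E.inv_app, b.2.1 _ c.2]
  have hB : Nat.card ↥B ≤ Nat.card ↥E.A := by
    rw [E.card_A]
    refine Nat.le_of_mul_le_mul_right ?_ (Nat.card_pos (α := F))
    rw [← pow_two]
    exact le_trans (Nat.mul_le_mul_left _ hfix) hle
  exact (Subgroup.eq_of_le_of_card_ge hAB hB).symm ▸ (hx : x ∈ B)

omit hp [Finite G] in
/-- `L` moves the first axis onto every nonzero vector. -/
theorem exists_el_axis {v : Fin 2 → F} (hv : v ≠ 0) :
    ∃ y : SL(2, F), E.η (E.el y) ![1, 0] = v := by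
  by_cases h : v 0 = 0
  · have h1 : v 1 ≠ 0 := fun e => hv (by funext i; fin_cases i <;> assumption)
    refine ⟨⟨!![0, -(v 1)⁻¹; v 1, 0], by simp [Matrix.det_fin_two_of, *]⟩, ?_⟩
    refine (E.el_app _ _).trans ?_
    funext i; fin_cases i <;> simp [Matrix.mulVec, dotProduct, Fin.sum_univ_two, h]
  · refine ⟨⟨!![v 0, 0; v 1, (v 0)⁻¹], by simp [Matrix.det_fin_two_of, *]⟩, ?_⟩
    refine (E.el_app _ _).trans ?_
    funext i; fin_cases i <;> simp [Matrix.mulVec, dotProduct, Fin.sum_univ_two]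

/-- A group permuting the lines normalizes `L`. -/
theorem normal_of_lines
    (h : ∀ g : G, ∃ y : SL(2, F), ∀ x, x ∈ C ↔ E.η ((E.el y)⁻¹ * g) x ∈ C) : E.L.Normal := by
  have hA : ∀ g : G, ∀ a ∈ E.A, g * a * g⁻¹ ∈ E.L := by
    intro g a ha
    obtain ⟨y, hy⟩ := h g
    set k := (E.el y)⁻¹ * g
    have hk : E.Kills (k * a * k⁻¹) := by
      refine ⟨fun c hc => ?_, fun v => ?_⟩
      · have hc' : E.η k⁻¹ c ∈ C := (hy _).2 (by rwa [E.app_inv])
        rw [E.comp, E.comp, (E.A_kills ha).1 _ hc', E.app_inv]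
      · have := (hy _).1 ((E.A_kills ha).2 (E.η k⁻¹ v))
        rwa [map_sub, E.app_inv, ← E.comp, ← E.comp] at this
    obtain ⟨t, ht⟩ := E.mem_A.1 (E.mem_A_of_kills hk)
    rw [show g * a * g⁻¹ = E.el y * (k * a * k⁻¹) * (E.el y)⁻¹ by simp only [k]; group, ← ht]
    exact mul_mem (mul_mem (E.el_mem y) (E.el_mem _)) (inv_mem (E.el_mem y))
  refine ⟨fun l hl g => ?_⟩
  obtain ⟨x, rfl⟩ := E.exists_el hl
  have hup : ∀ g t, g * E.el (up t) * g⁻¹ ∈ E.L := fun g t => hA g _ (E.mem_A.2 ⟨t, rfl⟩)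
  have hlo : ∀ g t, g * E.el (lo t) * g⁻¹ ∈ E.L := fun g t => by
    rw [lo_eq, map_mul, map_mul, map_inv]
    have := hup (g * (E.el wm)⁻¹) (-t)
    rwa [mul_inv_rev, inv_inv, show g * (E.el wm)⁻¹ * E.el (up (-t)) * (E.el wm * g⁻¹) =
      g * ((E.el wm)⁻¹ * E.el (up (-t)) * E.el wm) * g⁻¹ by group] at this
  have hmul : ∀ a b, g * a * g⁻¹ ∈ E.L → g * b * g⁻¹ ∈ E.L → g * (a * b) * g⁻¹ ∈ E.L :=
    fun a b ha hb => by
      rw [show g * (a * b) * g⁻¹ = g * a * g⁻¹ * (g * b * g⁻¹) by group]; exact mul_mem ha hb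
  exact forall_of_gen (fun x => g * E.el x * g⁻¹ ∈ E.L) (by simp)
    (fun a b ha hb => by rw [map_mul]; exact hmul _ _ ha hb) (hup g)
    (by rw [wm_eq, map_mul, map_mul]; exact hmul _ _ (hmul _ _ (hup g 1) (hlo g (-1))) (hup g 1)) x

end Emb

end CfsgLib.SLTwoEmbedded
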