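import Cfsg.Agent.Lib.SLTwoEmbedded.Main
import Cfsg.Agent.Lib.Classical.A8Subgroups
import Cfsg.Agent.Lib.SL2.Facts

/-!
The field of four elements: the group is a subgroup of `GL₄(2)`.
-/

set_option autoImplicit false
set_option linter.unusedSectionVars false
set_option linter.style.haveILetI false

namespace CfsgLib.SLTwoEmbedded

open CfsgLib.SL2 CfsgLib.SL2Module
open scoped MatrixGroups

universe u

variable {F : Type} [Field F] [Finite F]

/-- A subgroup of the additive group of the field of four elements containing two non-zero elements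
is everything. -/
theorem top_of_two (h4 : Nat.card F = 4) (S : AddSubgroup F) {c : F} (hc0 : c ≠ 0) (hc1 : c ≠ 1)
    (h1 : (1 : F) ∈ S) (hc : c ∈ S) (a : F) : a ∈ S := by
  classical
  haveI := Fintype.ofFinite ↥S
  have h3 : 3 ≤ Nat.card ↥S := by
    have := Finset.card_le_univ ({⟨0, zero_mem S⟩, ⟨1, h1⟩, ⟨c, hc⟩} : Finset ↥S)
    rw [Finset.card_insert_of_notMem (by simp [Ne.symm hc0]),
      Finset.card_pair (fun e => hc1 (congrArg Subtype.val e).symm)] at this
    rwa [Nat.card_eq_fintype_card]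
  have hd : Nat.card ↥S ∣ 4 := h4 ▸ AddSubgroup.card_addSubgroup_dvd_card S
  have h44 : Nat.card ↥S = 4 := by
    have hle := Nat.le_of_dvd (by norm_num) hd
    interval_cases h : Nat.card ↥S <;> first | rfl | norm_num at hd
  rw [AddSubgroup.eq_top_of_card_eq S (h44.trans h4.symm)]
  trivial

/-- The field of four elements has at most two automorphisms. -/
theorem card_aut_le (h4 : Nat.card F = 4) : Nat.card (RingAut F) ≤ 2 := by
  classical
  haveI := Fintype.ofFinite F
  have hc : Fintype.card {x : F // x ≠ 0 ∧ x ≠ 1} = 2 := by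
    have h : (Finset.univ.filter fun x : F => x ≠ 0 ∧ x ≠ 1) = Finset.univ \ {0, 1} := by
      ext x; simp
    rw [Fintype.card_subtype, h, Finset.card_univ_sdiff, Finset.card_pair zero_ne_one,
      ← Nat.card_eq_fintype_card, h4]
  obtain ⟨c⟩ : Nonempty {x : F // x ≠ 0 ∧ x ≠ 1} := Fintype.card_pos_iff.1 (by omega)
  rw [← hc, ← Nat.card_eq_fintype_card]
  refine Nat.card_le_card_of_injective (fun σ : RingAut F => (⟨σ c.1,
    fun e => c.2.1 (σ.injective (e.trans (map_zero σ).symm)),
    fun e => c.2.2 (σ.injective (e.trans (map_one σ).symm))⟩ : {x : F // x ≠ 0 ∧ x ≠ 1}))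
    fun σ τ e => RingEquiv.ext fun a => ?_
  exact top_of_two h4 ((σ : F →+ F).eqLocus (τ : F →+ F)) c.2.1 c.2.2
    (by show σ 1 = τ 1; rw [map_one, map_one]) (congrArg Subtype.val e) a

namespace Emb

variable {p : ℕ} [hp : Fact p.Prime] {G : Type u} [Group G] [Finite G] (E : Emb p G F)
  (h4 : Nat.card F = 4)

include E h4 in
theorem eq_two : p = 2 := by
  haveI : CharP F p := (CharP.charP_iff_prime_eq_zero hp.out).2 E.prime_zero
  haveI := Fintype.ofFinite F
  have hd : p ∣ Nat.card F := by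
    rw [Nat.card_eq_fintype_card]
    exact (CharP.cast_eq_zero_iff F p _).1 (Nat.cast_card_eq_zero F)
  rw [h4] at hd
  exact (Nat.prime_dvd_prime_iff_eq hp.out Nat.prime_two).1 (hp.out.dvd_of_dvd_pow (n := 2) hd)

include E in
theorem normal_pgroup_eq_bot (Q : Subgroup G) [hQn : Q.Normal] (hQ : IsPGroup p ↥Q) : Q = ⊥ := by
  letI : MulAction ↥Q (Fin 2 → F) :=
    { smul := fun q x => E.η q x
      one_smul := fun x => E.one_app x
      mul_smul := fun a b x => E.comp a b x }
  haveI : CharP F p := (CharP.charP_iff_prime_eq_zero hp.out).2 E.prime_zero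
  haveI := Fintype.ofFinite F
  have hd : p ∣ Nat.card (Fin 2 → F) := by
    rw [Nat.card_fun, Nat.card_eq_fintype_card (α := Fin 2), Fintype.card_fin, Nat.card_eq_fintype_card]
    exact dvd_pow ((CharP.cast_eq_zero_iff F p _).1 (Nat.cast_card_eq_zero F)) two_ne_zero
  obtain ⟨v, hv, hv0⟩ := hQ.exists_fixed_point_of_prime_dvd_card_of_fixed_point (α := Fin 2 → F) hd
    (a := 0) fun q => map_zero (E.η (q : G))
  obtain ⟨y₀, hy₀⟩ := E.exists_el_axis (v := v) (Ne.symm hv0)
  rw [Subgroup.eq_bot_iff_forall]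
  intro q hq
  refine E.eq_of_app fun w => ?_
  rw [E.one_app]
  rcases eq_or_ne w 0 with rfl | hw
  · exact map_zero _
  · obtain ⟨y, hy⟩ := E.exists_el_axis hw
    set z := E.el y * (E.el y₀)⁻¹
    have hz : E.η z v = w := by simp only [z]; rw [E.comp, ← hy₀, E.inv_app, hy]
    have hfix : E.η (z⁻¹ * q * z) v = v :=
      hv ⟨z⁻¹ * q * z, by simpa using hQn.conj_mem q hq z⁻¹⟩
    rw [← hz, ← E.comp, show q * z = z * (z⁻¹ * q * z) by group, E.comp, hfix]

include h4 in
/-- If an abelian normal subgroup is non-trivial then the group is semilinear. -/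
theorem normal_of_abelian (M : Subgroup G) [hMn : M.Normal] (hM : ∀ a ∈ M, ∀ b ∈ M, a * b = b * a)
    (hne : M ≠ ⊥) : E.L.Normal := by
  classical
  have hp2 := E.eq_two h4
  -- no elements of order `p`
  have hcop : ¬ p ∣ Nat.card ↥M := fun hd => by
    obtain ⟨m, hm⟩ := exists_prime_orderOf_dvd_card' (G := ↥M) p hd
    let Q : Subgroup G :=
      { carrier := {m | m ∈ M ∧ m ^ p = 1}
        one_mem' := ⟨one_mem _, one_pow p⟩
        mul_mem' := fun {a b} ha hb => ⟨mul_mem ha.1 hb.1, by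
          rw [(show Commute a b from hM a ha.1 b hb.1).mul_pow, ha.2, hb.2, mul_one]⟩
        inv_mem' := fun {a} ha => ⟨inv_mem ha.1, by rw [inv_pow, ha.2, inv_one]⟩ }
    haveI : Q.Normal := ⟨fun a ha g => ⟨hMn.conj_mem a ha.1 g, by
      rw [conj_pow, ha.2, mul_one, mul_inv_cancel]⟩⟩
    have hQ := E.normal_pgroup_eq_bot Q fun x => ⟨1, Subtype.ext (by
      rw [pow_one, SubmonoidClass.coe_pow, x.2.2, OneMemClass.coe_one])⟩
    have hmQ : (m : G) ∈ Q := ⟨m.2, by
      rw [← SubmonoidClass.coe_pow, ← hm, pow_orderOf_eq_one, OneMemClass.coe_one]⟩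
    rw [hQ, Subgroup.mem_bot] at hmQ
    rw [show m = 1 from Subtype.ext hmQ, orderOf_one] at hm
    exact hp.out.ne_one hm.symm
  -- the axis is invariant
  have hstab : ∀ m ∈ M, ∀ x ∈ C, E.η m x ∈ C := by
    intro m hm
    let P : G → Prop := fun z => ∀ x ∈ C, E.η z x ∈ C
    have Pmul : ∀ a b, P a → P b → P (a * b) := fun a b ha hb x hx => by
      rw [E.comp]; exact ha _ (hb x hx)
    have Ppow : ∀ a, P a → ∀ n : ℕ, P (a ^ n) := fun a ha n => by
      induction n with
      | zero => intro x hx; rwa [pow_zero, E.one_app]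
      | succ n ih => rw [pow_succ]; exact Pmul _ _ ih ha
    have Pinv : ∀ a, P a → P a⁻¹ := fun a ha => by
      rw [show a⁻¹ = a ^ (orderOf a - 1) from inv_eq_of_mul_eq_one_right (by
        rw [← pow_succ', Nat.sub_add_cancel (orderOf_pos a), pow_orderOf_eq_one])]
      exact Ppow a ha _
    have Pcomm : ∀ z a, a ∈ E.A → a ≠ 1 → a * z = z * a → P z := fun z a ha ha1 hc x hx =>
      E.fix_eq ha ha1 (by rw [← E.comp, hc, E.comp, (E.A_kills ha).1 x hx])
    obtain ⟨a, ha, ha1⟩ : ∃ a ∈ E.A, a ≠ 1 := by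
      haveI : Nontrivial ↥E.A := Finite.one_lt_card_iff_nontrivial.1 (by rw [E.card_A, h4]; norm_num)
      obtain ⟨a, ha⟩ := exists_ne (1 : ↥E.A)
      exact ⟨a, a.2, fun e => ha (Subtype.ext e)⟩
    obtain ⟨b, hb, hb1, hba⟩ : ∃ b ∈ E.A, b ≠ 1 ∧ b ≠ a := by
      haveI := Fintype.ofFinite ↥E.A
      obtain ⟨b, hb⟩ := Finset.exists_mem_notMem_of_card_lt_card
        (s := ({1, ⟨a, ha⟩} : Finset ↥E.A)) (t := Finset.univ) (lt_of_le_of_lt
          Finset.card_le_two (by
            rw [Finset.card_univ, ← Nat.card_eq_fintype_card, E.card_A, h4]; norm_num))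
      simp only [Finset.mem_insert, Finset.mem_singleton, not_or] at hb
      exact ⟨b, b.2, fun e => hb.2.1 (Subtype.ext e), fun e => hb.2.2 (Subtype.ext e)⟩
    have sq : ∀ c ∈ E.A, c * c = 1 := fun c hc => by rw [← pow_two, ← hp2]; exact E.A_pow hc
    have hab : a * b ≠ 1 := fun e => hba (mul_left_cancel ((sq a ha).trans e.symm)).symm
    have conjM : ∀ c : G, c * m * c⁻¹ ∈ M := fun c => hMn.conj_mem m hm c
    have cm := fun c d : G => hM _ (conjM c) _ (conjM d)
    set x1 := m * (a * m * a⁻¹) with hx1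
    set x2 := m * (b * m * b⁻¹) with hx2
    set x3 := a * m * a⁻¹ * (b * m * b⁻¹) with hx3
    have hai : a⁻¹ = a := inv_eq_of_mul_eq_one_right (sq a ha)
    have hbi : b⁻¹ = b := inv_eq_of_mul_eq_one_right (sq b hb)
    have hba' : b * a = a * b := E.A_comm hb ha
    have e1 : a * x1 * a⁻¹ = x1 := by
      rw [hx1]
      calc a * (m * (a * m * a⁻¹)) * a⁻¹ = a * m * a⁻¹ * ((a * a) * m * (a * a)⁻¹) := by group
        _ = a * m * a⁻¹ * (1 * m * 1⁻¹) := by rw [sq a ha]
        _ = m * (a * m * a⁻¹) := by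
          have := cm a 1
          simp only [one_mul, inv_one, mul_one] at this ⊢
          exact this
    have e2 : b * x2 * b⁻¹ = x2 := by
      rw [hx2]
      calc b * (m * (b * m * b⁻¹)) * b⁻¹ = b * m * b⁻¹ * ((b * b) * m * (b * b)⁻¹) := by group
        _ = b * m * b⁻¹ * (1 * m * 1⁻¹) := by rw [sq b hb]
        _ = m * (b * m * b⁻¹) := by
          have := cm b 1
          simp only [one_mul, inv_one, mul_one] at this ⊢
          exact this
    have e3 : a * b * x3 * (a * b)⁻¹ = x3 := by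
      rw [hx3]
      calc a * b * (a * m * a⁻¹ * (b * m * b⁻¹)) * (a * b)⁻¹
          = (a * (b * a)) * m * (a * (b * a))⁻¹ * ((a * (b * b)) * m * (a * (b * b))⁻¹) := by group
        _ = b * m * b⁻¹ * (a * m * a⁻¹) := by
          rw [hba', ← mul_assoc a a b, sq a ha, one_mul, sq b hb, mul_one]
        _ = a * m * a⁻¹ * (b * m * b⁻¹) := cm b a
    have hPx : P x1 ∧ P x2 ∧ P x3 :=
      ⟨Pcomm _ a ha ha1 (mul_inv_eq_iff_eq_mul.1 e1), Pcomm _ b hb hb1 (mul_inv_eq_iff_eq_mul.1 e2),
        Pcomm _ (a * b) (mul_mem ha hb) hab (mul_inv_eq_iff_eq_mul.1 e3)⟩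
    have hsq : P (m ^ 2) := by
      have hmul : m ^ 2 = x1 * x2 * x3⁻¹ := by
        have h1 := cm a 1
        simp only [one_mul, inv_one, mul_one] at h1
        rw [hx1, hx2, hx3, eq_mul_inv_iff_mul_eq, pow_two]
        calc m * m * (a * m * a⁻¹ * (b * m * b⁻¹)) = m * (m * (a * m * a⁻¹)) * (b * m * b⁻¹) := by group
          _ = m * (a * m * a⁻¹ * m) * (b * m * b⁻¹) := by rw [h1]
          _ = m * (a * m * a⁻¹) * (m * (b * m * b⁻¹)) := by group
      rw [hmul]
      exact Pmul _ _ (Pmul _ _ hPx.1 hPx.2.1) (Pinv _ hPx.2.2)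
    have hodd : Odd (Nat.card ↥M) := Nat.not_even_iff_odd.1 fun he => hcop (hp2 ▸ he.two_dvd)
    obtain ⟨k, hk⟩ := hodd
    have hm1 : m ^ Nat.card ↥M = 1 :=
      congrArg (fun z : ↥M => (z : G)) (pow_card_eq_one' (x := (⟨m, hm⟩ : ↥M)))
    have := Ppow _ hsq (k + 1)
    rwa [← pow_mul, show 2 * (k + 1) = Nat.card ↥M + 1 by omega, pow_succ, hm1, one_mul] at this
  -- the root group is centralized
  have hcA : ∀ m ∈ M, ∀ a ∈ E.A, m * a = a * m := by
    intro m hm a ha
    have hk : E.Kills (m * a * m⁻¹) := by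
      refine ⟨fun c hc => ?_, fun v => ?_⟩
      · rw [E.comp, E.comp, (E.A_kills ha).1 _ (hstab _ (inv_mem hm) c hc), E.app_inv]
      · have := hstab m hm _ ((E.A_kills ha).2 (E.η m⁻¹ v))
        rwa [map_sub, E.app_inv, ← E.comp, ← E.comp] at this
    have hz := mul_mem (E.mem_A_of_kills hk) (inv_mem ha)
    have hzM : m * a * m⁻¹ * a⁻¹ ∈ M := by
      rw [show m * a * m⁻¹ * a⁻¹ = m * (a * m⁻¹ * a⁻¹) by group]
      exact mul_mem hm (hMn.conj_mem _ (inv_mem hm) a)
    have h1 : orderOf (m * a * m⁻¹ * a⁻¹) = 1 := by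
      refine Nat.eq_one_of_dvd_coprimes (hp.out.coprime_iff_not_dvd.2 hcop)
        (orderOf_dvd_of_pow_eq_one (E.A_pow hz)) ?_
      rw [← Subgroup.orderOf_mk _ hzM]
      exact orderOf_dvd_natCard _
    have := mul_inv_eq_one.1 (orderOf_eq_one_iff.1 h1)
    calc m * a = m * a * m⁻¹ * m := by group
      _ = a * m := by rw [this]
  -- all of `L` is centralized
  have hcL : ∀ y : SL(2, F), ∀ m ∈ M, m * E.el y = E.el y * m := by
    have hup : ∀ t, ∀ g : G, ∀ m ∈ M, m * (g * E.el (up t) * g⁻¹) = g * E.el (up t) * g⁻¹ * m := by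
      intro t g m hm
      have h := hcA (g⁻¹ * m * g) (by simpa using hMn.conj_mem m hm g⁻¹) _ (E.mem_A.2 ⟨t, rfl⟩)
      calc m * (g * E.el (up t) * g⁻¹) = g * (g⁻¹ * m * g * E.el (up t)) * g⁻¹ := by group
        _ = g * (E.el (up t) * (g⁻¹ * m * g)) * g⁻¹ := by rw [h]
        _ = g * E.el (up t) * g⁻¹ * m := by group
    have hmul : ∀ a b : G, (∀ m ∈ M, m * a = a * m) → (∀ m ∈ M, m * b = b * m) →
        ∀ m ∈ M, m * (a * b) = a * b * m := fun a b ha hb m hm => by
      rw [← mul_assoc, ha m hm, mul_assoc, hb m hm, mul_assoc]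
    have hup1 : ∀ t, ∀ m ∈ M, m * E.el (up t) = E.el (up t) * m := fun t m hm => by
      simpa using hup t 1 m hm
    have hlo : ∀ t, ∀ m ∈ M, m * E.el (lo t) = E.el (lo t) * m := fun t m hm => by
      rw [lo_eq, map_mul, map_mul, map_inv]
      have := hup (-t) (E.el wm)⁻¹ m hm
      rwa [inv_inv] at this
    refine forall_of_gen (fun y => ∀ m ∈ M, m * E.el y = E.el y * m) (fun m _ => by simp)
      (fun a b ha hb => by rw [map_mul]; exact hmul _ _ ha hb) hup1 ?_
    rw [wm_eq, map_mul, map_mul]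
    exact hmul _ _ (hmul _ _ (hup1 1) (hlo (-1))) (hup1 1)
  -- the scalars
  have hsc : ∀ m ∈ M, ∃ c : F, ∀ x, E.η m x = c • x := fun m hm =>
    E.scalar_of_comm (E.η m) fun y x => (E.comp m (E.el y) x).symm.trans (by rw [hcL y m hm]; exact E.comp _ _ x)
  obtain ⟨m, hm, hm1⟩ : ∃ m ∈ M, m ≠ 1 := by
    by_contra h
    push Not at h
    exact hne ((Subgroup.eq_bot_iff_forall M).2 h)
  obtain ⟨c, hc⟩ := hsc m hm
  have h0 : (![1, 0] : Fin 2 → F) ≠ 0 := fun e => one_ne_zero (congrFun e 0)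
  have hc1 : c ≠ 1 := fun e => hm1 (E.eq_of_app fun x => by rw [hc, e, one_smul, E.one_app])
  have hc0 : c ≠ 0 := fun e => h0 (E.app_inj m (by rw [hc, hc, e, zero_smul, zero_smul]))
  refine E.normal_of_lines fun g => ?_
  obtain ⟨y, hy⟩ := E.exists_el_axis (v := E.η g ![1, 0]) fun e =>
    h0 (E.app_inj g (e.trans (map_zero _).symm))
  set k := (E.el y)⁻¹ * g
  have hk : E.η k ![1, 0] = ![1, 0] := by
    simp only [k]
    rw [E.comp, ← hy, E.inv_app]
  let S : AddSubgroup F :=
    { carrier := {a | ∃ b : F, ∀ x, E.η k (a • x) = b • E.η k x}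
      zero_mem' := ⟨0, fun x => by rw [zero_smul, zero_smul, map_zero]⟩
      add_mem' := fun {a b} ⟨a', ha⟩ ⟨b', hb⟩ => ⟨a' + b', fun x => by
        rw [add_smul, map_add, ha, hb, add_smul]⟩
      neg_mem' := fun {a} ⟨a', ha⟩ => ⟨-a', fun x => by rw [neg_smul, map_neg, ha, neg_smul]⟩ }
  have hS : ∀ a, a ∈ S := top_of_two h4 S hc0 hc1 ⟨1, fun x => by rw [one_smul, one_smul]⟩ (by
    obtain ⟨c', hc'⟩ := hsc _ (hMn.conj_mem m hm k)
    refine ⟨c', fun x => ?_⟩
    rw [← hc, ← E.comp, show k * m = k * m * k⁻¹ * k by group, E.comp, hc'])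
  have hline : E.line k = C := by
    refine AddSubgroup.eq_of_le_of_card_ge ?_ (le_of_eq (by rw [E.card_line, card_C]))
    intro z hz
    have hz' := E.mem_line.1 hz
    obtain ⟨b, hb⟩ := hS (E.η k⁻¹ z 0)
    have hz1 : E.η k⁻¹ z 1 = 0 := hz'
    have e : E.η k⁻¹ z = E.η k⁻¹ z 0 • ![1, 0] := by
      funext i; fin_cases i <;> simp [hz1]
    rw [← E.app_inv k z, e, hb, hk, mem_C]
    simp
  refine ⟨y, fun x => ?_⟩
  conv_rhs => rw [← hline, E.mem_line, E.inv_app]

include h4 in
theorem radless (hn : ¬ E.L.Normal) : AEightSub.Radless G := by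
  classical
  intro N hN hs
  by_contra hne
  obtain ⟨n₀, hn₀⟩ := (Group.isSolvable_def ↥N).1 hs
  have hex : ∃ n, derivedSeries ↥N n = ⊥ := ⟨n₀, hn₀⟩
  obtain ⟨j, hj⟩ : ∃ j, Nat.find hex = j + 1 := by
    refine ⟨Nat.find hex - 1, (Nat.sub_add_cancel ?_).symm⟩
    rw [Nat.one_le_iff_ne_zero]
    intro h0
    have := Nat.find_spec hex
    rw [h0, derivedSeries_zero] at this
    refine hne ((Subgroup.eq_bot_iff_forall N).2 fun x hx => ?_)
    have hxb : (⟨x, hx⟩ : ↥N) ∈ (⊥ : Subgroup ↥N) := this ▸ Subgroup.mem_top _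
    exact congrArg Subtype.val (Subgroup.mem_bot.1 hxb)
  set K := derivedSeries ↥N j
  have hK0 : K ≠ ⊥ := Nat.find_min hex (by omega)
  have hKK : ⁅K, K⁆ = ⊥ := by
    have := Nat.find_spec hex
    rw [hj, derivedSeries_succ] at this
    exact this
  have hcomm : ∀ a ∈ K.map N.subtype, ∀ b ∈ K.map N.subtype, a * b = b * a := by
    rintro _ ⟨a, ha, rfl⟩ _ ⟨b, hb, rfl⟩
    rw [← map_mul, ← map_mul,
      (Subgroup.mem_centralizer_iff.1 (Subgroup.commutator_eq_bot_iff_le_centralizer.1 hKK ha) b hb).symm]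
  haveI : (K.map N.subtype).Normal := ConjAct.normal_of_characteristic_of_normal
  exact hn (E.normal_of_abelian h4 (K.map N.subtype) hcomm fun e =>
    hK0 ((Subgroup.map_eq_bot_iff_of_injective K N.subtype_injective).1 e))

include E h4 in
theorem exists_gl : ∃ f : G →* GL (Fin 4) (ZMod 2), Function.Injective f := by
  haveI : CharP F 2 := by
    rw [← E.eq_two h4]
    exact (CharP.charP_iff_prime_eq_zero hp.out).2 E.prime_zero
  letI : Algebra (ZMod 2) F := ZMod.algebra F 2
  haveI : Fact (Nat.Prime 2) := ⟨Nat.prime_two⟩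
  have hfr : Module.finrank (ZMod 2) (Fin 2 → F) = Module.finrank (ZMod 2) (Fin 4 → ZMod 2) := by
    have h : Nat.card (Fin 2 → F) = 2 ^ 4 := by
      rw [Nat.card_fun, h4, Nat.card_eq_fintype_card, Fintype.card_fin]; norm_num
    rw [Module.natCard_eq_pow_finrank (K := ZMod 2), Nat.card_zmod] at h
    rw [Module.finrank_fin_fun]
    exact Nat.pow_right_injective le_rfl h
  let e := LinearEquiv.ofFinrankEq (Fin 2 → F) (Fin 4 → ZMod 2) hfr
  let ψ : G →* Matrix (Fin 4) (Fin 4) (ZMod 2) :=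
    { toFun := fun g => LinearMap.toMatrixAlgEquiv' (e.conj ((E.η g).toZModLinearMap 2))
      map_one' := by
        rw [show (E.η 1).toZModLinearMap 2 = LinearMap.id from LinearMap.ext fun x => E.one_app x,
          LinearEquiv.conj_id]
        exact map_one _
      map_mul' := fun a b => by
        rw [show (E.η (a * b)).toZModLinearMap 2 = ((E.η a).toZModLinearMap 2).comp
          ((E.η b).toZModLinearMap 2) from LinearMap.ext fun x => E.comp a b x, LinearEquiv.conj_comp]
        exact map_mul _ _ _ }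
  refine ⟨ψ.toHomUnits, fun a b h => E.eq_of_app fun x => ?_⟩
  have h1 : ψ a = ψ b := congrArg Units.val h
  have h2 := e.conj.injective (LinearMap.toMatrixAlgEquiv'.injective h1)
  exact LinearMap.congr_fun h2 x

include E h4 in
theorem not_sixteen : ¬ 16 ∣ Nat.card G := by
  intro h16
  classical
  have hp2 := E.eq_two h4
  haveI : Fact (Nat.Prime 2) := ⟨Nat.prime_two⟩
  obtain ⟨Q, hQ⟩ := Sylow.exists_subgroup_card_pow_prime 2 (n := 4) (G := G) (by simpa using h16)
  obtain ⟨g, hg⟩ := E.syl Q (by rw [hp2]; exact IsPGroup.of_card hQ)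
  let η' : ↥Q →* AddMonoid.End (Fin 2 → F) :=
    E.η.comp ((MulAut.conj g).toMonoidHom.comp Q.subtype)
  have hη' : Function.Injective η' := E.inj.comp ((MulAut.conj g).injective.comp Q.subtype_injective)
  choose σ hσ using fun a : ↥Q => E.semilinear (hg a a.2)
  have hσ' : ∀ (a : ↥Q) (r : F) x, η' a (r • x) = σ a r • η' a x := hσ
  let Φ : ↥Q →* RingAut F := MonoidHom.mk' σ fun a b => by
    have hne : η' (a * b) ![1, 0] ≠ 0 := fun e => one_ne_zero
      (congrFun (E.app_inj _ (e.trans (map_zero _).symm)) 0)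
    obtain ⟨i, hi⟩ := Function.ne_iff.1 hne
    refine RingEquiv.ext fun r => ?_
    have h1 := hσ' (a * b) r ![1, 0]
    conv_lhs at h1 => rw [map_mul, AddMonoid.End.coe_mul, Function.comp_apply, hσ', hσ']
    rw [map_mul, AddMonoid.End.coe_mul, Function.comp_apply] at hi h1
    exact (mul_right_cancel₀ hi (congrFun h1 i)).symm
  have hlin : ∀ a : ↥Φ.ker, ∀ (r : F) x, η' a.1 (r • x) = r • η' a.1 x := fun a r x => by
    rw [hσ', show σ a.1 = 1 from a.2]; rfl
  let lm : ↥Φ.ker → Module.End F (Fin 2 → F) := fun a =>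
    { toFun := η' a.1, map_add' := fun x y => map_add (η' a.1) x y, map_smul' := fun r x => hlin a r x }
  let ψ : ↥Φ.ker →* Matrix (Fin 2) (Fin 2) F :=
    { toFun := fun a => LinearMap.toMatrixAlgEquiv' (lm a)
      map_one' := by
        rw [show lm 1 = 1 from LinearMap.ext fun x => by
          show η' 1 x = x
          rw [map_one]; rfl]
        exact map_one _
      map_mul' := fun a b => by
        rw [show lm (a * b) = lm a * lm b from LinearMap.ext fun x => by
          show η' ((a : ↥Q) * b) x = η' a.1 (η' b.1 x)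
          rw [map_mul]; rfl]
        exact map_mul _ _ _ }
  have hψ : Function.Injective ψ.toHomUnits := fun a b h => Subtype.ext (hη' (by
    have h1 : ψ a = ψ b := congrArg Units.val h
    have h2 := LinearMap.toMatrixAlgEquiv'.injective h1
    exact AddMonoidHom.ext fun x => LinearMap.congr_fun h2 x))
  have hd : Nat.card ↥Φ.ker ∣ Nat.card (GL (Fin 2) F) := by
    rw [Nat.card_congr (MonoidHom.ofInjective hψ).toEquiv]
    exact Subgroup.card_subgroup_dvd_card _
  haveI := Fintype.ofFinite F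
  rw [Matrix.card_GL_field, ← Nat.card_eq_fintype_card (α := F), h4] at hd
  simp [Fin.prod_univ_succ] at hd
  have hd2 : Nat.card ↥Φ.ker ∣ 16 := by
    have := Subgroup.card_subgroup_dvd_card Φ.ker
    rw [hQ] at this
    simpa using this
  have hk4 : Nat.card ↥Φ.ker ∣ 4 := by
    have := Nat.dvd_gcd hd hd2
    norm_num at this
    exact this
  haveI : Finite (RingAut F) := Finite.of_injective (fun σ : RingAut F => (σ : F → F))
    DFunLike.coe_injective
  have hr : Nat.card ↥Φ.range ≤ 2 :=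
    le_trans (Nat.card_le_card_of_injective _ Subtype.val_injective) (card_aut_le h4)
  have := Subgroup.card_eq_card_quotient_mul_card_subgroup Φ.ker
  rw [Nat.card_congr (QuotientGroup.quotientKerEquivRange Φ).toEquiv, hQ] at this
  have := Nat.le_of_dvd (by norm_num) hk4
  nlinarith

include h4 in
theorem card_L : Nat.card ↥E.L = 60 := by
  rw [Nat.card_congr E.ρ.toEquiv, SL2.card_SL_two', h4]

include h4 in
theorem normal_or_alt_seven : E.L.Normal ∨ Nonempty (G ≃* alternatingGroup (Fin 7)) := by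
  classical
  by_cases hn : E.L.Normal
  · exact Or.inl hn
  have hL := E.card_L h4
  have hL0 : 60 ∣ Nat.card G := hL ▸ Subgroup.card_subgroup_dvd_card E.L
  haveI : Nontrivial G := by
    rw [← Finite.one_lt_card_iff_nontrivial]
    exact lt_of_lt_of_le (by norm_num) (Nat.le_of_dvd Nat.card_pos hL0)
  obtain ⟨f, hf⟩ := E.exists_gl h4
  have h16 := E.not_sixteen h4
  rcases AEightSub.listed_of_embedding f hf (E.radless h4 hn) with
    ⟨n, hn5, hn8, ⟨e⟩⟩ | ⟨⟨e⟩⟩ | ⟨⟨e⟩⟩ | ⟨h168, -⟩
  · have hc := Nat.card_congr e.toEquiv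
    interval_cases n
    · refine absurd ?_ hn
      rw [nat_card_alternatingGroup, Nat.card_fin] at hc
      rw [Subgroup.eq_top_of_card_eq E.L (by rw [hL, hc]; rfl)]
      infer_instance
    · rw [nat_card_alternatingGroup, Nat.card_fin] at hc
      have hG : Nat.card G = 360 := hc.trans (by decide)
      haveI : IsSimpleGroup (alternatingGroup (Fin 6)) := alternatingGroup.isSimpleGroup (by simp)
      haveI : IsSimpleGroup G := IsSimpleGroup.isSimpleGroup_of_surjective e.symm.toMonoidHom e.symm.surjective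
      set N := Subgroup.normalizer (E.L : Set G)
      have hN60 : 60 ∣ Nat.card ↥N := hL ▸ Subgroup.card_dvd_of_le Subgroup.le_normalizer
      obtain ⟨Q, hQ⟩ := Sylow.exists_subgroup_card_pow_prime 2 (n := 3) (G := G) (by rw [hG]; norm_num)
      haveI : Fact (Nat.Prime 2) := ⟨Nat.prime_two⟩
      obtain ⟨g, hg⟩ := E.syl Q (by rw [E.eq_two h4]; exact IsPGroup.of_card hQ)
      have hN8 : 8 ∣ Nat.card ↥N := by
        have hle : Q.map (MulAut.conj g).toMonoidHom ≤ N := by
          rintro _ ⟨x, hx, rfl⟩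
          exact hg x hx
        have := Subgroup.card_dvd_of_le hle
        rwa [Subgroup.card_map_of_injective (MulAut.conj g).injective, hQ] at this
      have h120 : 120 ∣ Nat.card ↥N := Nat.lcm_dvd hN60 hN8
      have hN := Subgroup.card_subgroup_dvd_card N
      rw [hG] at hN
      have hNtop : N ≠ ⊤ := fun e => hn (Subgroup.normalizer_eq_top_iff.1 e)
      have hi : N.index ≤ 3 := by
        have := N.card_mul_index
        rw [hG] at this
        have h12 := Nat.le_of_dvd Nat.card_pos h120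
        nlinarith
      have hcore : N.normalCore = ⊥ := (N.normalCore_normal.eq_bot_or_eq_top).resolve_right
        fun e => hNtop (top_le_iff.1 (e ▸ N.normalCore_le))
      rw [Subgroup.normalCore_eq_ker, MonoidHom.ker_eq_bot_iff] at hcore
      have := Nat.card_le_card_of_injective _ hcore
      rw [hG, Nat.card_perm, ← Subgroup.index_eq_card] at this
      have : N.index.factorial ≤ Nat.factorial 3 := Nat.factorial_le hi
      simp [Nat.factorial] at *
      omega
    · exact Or.inr ⟨e⟩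
    · rw [nat_card_alternatingGroup, Nat.card_fin] at hc
      exact absurd (by rw [hc]; decide) h16
  · refine absurd (Subgroup.normal_of_index_eq_two ?_) hn
    have := E.L.card_mul_index
    rw [hL, Nat.card_congr e.toEquiv, Nat.card_perm, Nat.card_fin] at this
    simp [Nat.factorial] at this
    omega
  · refine absurd ?_ h16
    rw [Nat.card_congr e.toEquiv, Nat.card_perm, Nat.card_fin]
    decide
  · rw [h168] at hL0
    norm_num at hL0

end Emb

end CfsgLib.SLTwoEmbedded
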