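import Cfsg.Agent.Lib.SLTwoEmbedded.Meet

/-!
Outside the field of four elements the subgroup is normal.
-/

set_option autoImplicit false
set_option linter.unusedSectionVars false
set_option linter.style.haveILetI false

namespace CfsgLib.SLTwoEmbedded

open CfsgLib.SL2 CfsgLib.SL2Module
open scoped MatrixGroups

universe u

variable {F : Type} [Field F] [Finite F]

namespace Emb

variable {p : ℕ} [hp : Fact p.Prime] {G : Type u} [Group G] [Finite G] (E : Emb p G F)

theorem normal_of_ne_four (h4 : Nat.card F ≠ 4) : E.L.Normal := by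
  refine E.normal_of_lines fun g => ?_
  have h0 : (![1, 0] : Fin 2 → F) ≠ 0 := fun e => one_ne_zero (congrFun e 0)
  obtain ⟨y, hy⟩ := E.exists_el_axis (v := E.η g ![1, 0]) fun e =>
    h0 (E.app_inj g (e.trans (map_zero _).symm))
  set k := (E.el y)⁻¹ * g
  have hk : E.η k ![1, 0] = ![1, 0] := by
    simp only [k]
    rw [E.comp, ← hy, E.inv_app]
  refine ⟨y, fun x => ?_⟩
  have hline : E.line k = C := by
    by_contra hne
    refine h4 (E.eq_four_of_meet hne ⟨![1, 0], h0, mem_C.2 rfl, ?_⟩)
    have := E.app_mem_line (h := k) (g := 1) (x := ![1, 0]) (by rw [E.line_one]; exact mem_C.2 rfl)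
    rwa [hk, mul_one] at this
  conv_rhs => rw [← hline, E.mem_line, E.inv_app]

end Emb

end CfsgLib.SLTwoEmbedded
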