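import Cfsg.Agent.Lib.SLTwoEmbedded.Basic

/-!
Two conjugates of the first axis meet trivially or coincide, unless the field has four elements.
-/

set_option autoImplicit false
set_option linter.unusedSectionVars false
set_option linter.style.haveILetI false

namespace CfsgLib.SLTwoEmbedded

open CfsgLib.SL2 CfsgLib.SL2Module
open scoped MatrixGroups

universe u

variable {F : Type} [Field F] [Finite F]

/-- The common fixed points of semilinear maps are at most as many as the square of the common fixed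
field. -/
theorem fix_le_sq {ι : Type*} (f : ι → (Fin 2 → F) → (Fin 2 → F)) (σ : ι → F ≃+* F)
    (hadd : ∀ i x y, f i (x + y) = f i x + f i y) (hs : ∀ i (a : F) x, f i (a • x) = σ i a • f i x)
    (K : Subfield F) (hK : ∀ a : F, (∀ i, σ i a = a) → a ∈ K) :
    Nat.card {x : Fin 2 → F // ∀ i, f i x = x} ≤ Nat.card K * Nat.card K := by
  classical
  set X := {x : Fin 2 → F // ∀ i, f i x = x}
  have hpos : 0 < Nat.card K := Nat.card_pos
  by_cases hind : ∃ x y : X, x.1 0 * y.1 1 - x.1 1 * y.1 0 ≠ 0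
  · obtain ⟨x, y, hd⟩ := hind
    set d := x.1 0 * y.1 1 - x.1 1 * y.1 0
    have hz : ∀ z : X, z.1 = ((z.1 0 * y.1 1 - z.1 1 * y.1 0) / d) • x.1 +
        ((x.1 0 * z.1 1 - x.1 1 * z.1 0) / d) • y.1 := fun z => by
      funext i
      fin_cases i <;>
        simp only [Pi.add_apply, Pi.smul_apply, smul_eq_mul, Fin.zero_eta, Fin.mk_one] <;>
        rw [div_mul_eq_mul_div, div_mul_eq_mul_div, ← add_div, eq_div_iff hd] <;> ring
    have hmem : ∀ z : X, (z.1 0 * y.1 1 - z.1 1 * y.1 0) / d ∈ K ∧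
        (x.1 0 * z.1 1 - x.1 1 * z.1 0) / d ∈ K := by
      intro z
      set a := (z.1 0 * y.1 1 - z.1 1 * y.1 0) / d
      set b := (x.1 0 * z.1 1 - x.1 1 * z.1 0) / d
      have e : ∀ i, σ i a = a ∧ σ i b = b := fun i => by
        have h1 : z.1 = σ i a • x.1 + σ i b • y.1 := by
          conv_lhs => rw [← z.2 i, hz z, hadd, hs, hs, x.2 i, y.2 i]
        have h2 := h1.symm.trans (hz z)
        have g0 := congrFun h2 0
        have g1 := congrFun h2 1
        simp only [Pi.add_apply, Pi.smul_apply, smul_eq_mul] at g0 g1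
        constructor
        · refine mul_right_cancel₀ hd ?_
          linear_combination y.1 1 * g0 - y.1 0 * g1
        · refine mul_right_cancel₀ hd ?_
          linear_combination x.1 0 * g1 - x.1 1 * g0
      exact ⟨hK _ fun i => (e i).1, hK _ fun i => (e i).2⟩
    rw [← Nat.card_prod]
    refine Nat.card_le_card_of_injective
      (fun z : X => ((⟨_, (hmem z).1⟩ : K), (⟨_, (hmem z).2⟩ : K))) fun a b e => Subtype.ext ?_
    simp only [Prod.ext_iff, Subtype.ext_iff] at e
    rw [hz a, hz b, e.1, e.2]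
  · push Not at hind
    refine le_trans ?_ (Nat.le_mul_of_pos_left _ hpos)
    by_cases hx : ∃ x : X, x.1 ≠ 0
    · obtain ⟨x, hx⟩ := hx
      obtain ⟨j, hj⟩ := Function.ne_iff.1 hx
      have hj' : x.1 j ≠ 0 := hj
      have hz : ∀ z : X, z.1 = (z.1 j / x.1 j) • x.1 := fun z => by
        have h := sub_eq_zero.1 (hind z x)
        funext i
        rw [Pi.smul_apply, smul_eq_mul, div_mul_eq_mul_div, eq_div_iff hj']
        fin_cases i <;> fin_cases j <;> simp only [Fin.zero_eta, Fin.mk_one] <;>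
          linear_combination (norm := ring_nf) h
        all_goals linear_combination -2 * h
      refine Nat.card_le_card_of_injective (fun z : X => (⟨z.1 j / x.1 j,
        hK _ fun i => ?_⟩ : K)) fun a b e => Subtype.ext ?_
      · have h1 : z.1 = σ i (z.1 j / x.1 j) • x.1 := by
          conv_lhs => rw [← z.2 i, hz z, hs, x.2 i]
        exact mul_right_cancel₀ hj' (congrFun (h1.symm.trans (hz z)) j)
      · rw [hz a, hz b, show a.1 j / x.1 j = b.1 j / x.1 j from congrArg Subtype.val e]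
    · push Not at hx
      exact Nat.card_le_card_of_injective (fun _ : X => (0 : K))
        fun a b _ => Subtype.ext ((hx a).trans (hx b).symm)

namespace Emb

variable {p : ℕ} [hp : Fact p.Prime] {G : Type u} [Group G] [Finite G] (E : Emb p G F)

/-- The image of the first axis. -/
def line (g : G) : AddSubgroup (Fin 2 → F) := C.map (E.η g : (Fin 2 → F) →+ (Fin 2 → F))

theorem mem_line {g : G} {x : Fin 2 → F} : x ∈ E.line g ↔ E.η g⁻¹ x ∈ C :=
  ⟨fun ⟨c, hc, e⟩ => by
    rw [← e]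
    show E.η g⁻¹ (E.η g c) ∈ C
    rwa [E.inv_app], fun h => ⟨_, h, E.app_inv g x⟩⟩

theorem app_mem_line {g h : G} {x : Fin 2 → F} (hx : x ∈ E.line g) : E.η h x ∈ E.line (h * g) := by
  rw [E.mem_line, mul_inv_rev, E.comp, E.inv_app]
  exact E.mem_line.1 hx

theorem line_one : E.line 1 = C := AddSubgroup.ext fun x => by
  rw [E.mem_line, inv_one, E.one_app]

theorem card_line (g : G) : Nat.card (E.line g) = Nat.card F := by
  rw [← card_C (F := F)]
  exact (Nat.card_eq_of_bijective (fun c : (C : AddSubgroup (Fin 2 → F)) =>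
    (⟨E.η g c, c.1, c.2, rfl⟩ : E.line g)) ⟨fun a b h =>
      Subtype.ext (E.app_inj g (congrArg Subtype.val h)),
    fun ⟨_, c, hc, e⟩ => ⟨⟨c, hc⟩, Subtype.ext e⟩⟩).symm

theorem fix_eq {a : G} (ha : a ∈ E.A) (h1 : a ≠ 1) {x : Fin 2 → F} (hx : E.η a x = x) : x ∈ C := by
  obtain ⟨t, rfl⟩ := E.mem_A.1 ha
  rw [E.up_app] at hx
  have h := congrFun hx 0
  rw [Matrix.cons_val_zero, add_eq_left] at h
  exact (mul_eq_zero.1 h).resolve_left fun e => h1 (by rw [e, up_zero, map_one])

theorem A_comm {a b : G} (ha : a ∈ E.A) (hb : b ∈ E.A) : a * b = b * a := by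
  obtain ⟨s, rfl⟩ := E.mem_A.1 ha
  obtain ⟨t, rfl⟩ := E.mem_A.1 hb
  rw [← map_mul, ← map_mul, ← up_add, ← up_add, add_comm]

theorem A_pow {a : G} (ha : a ∈ E.A) : a ^ p = 1 :=
  E.eq_of_app fun v => by rw [E.pow_app (E.A_kills ha), E.smul_p, add_zero, E.one_app]

/-- Meeting different conjugates of the axis force four elements. -/
theorem eq_four_of_meet {g₁ : G} (hne : E.line g₁ ≠ C)
    (hmeet : ∃ v, v ≠ 0 ∧ v ∈ C ∧ v ∈ E.line g₁) : Nat.card F = 4 := by
  classical
  obtain ⟨v₀, hv0, hvC, hvL⟩ := hmeet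
  haveI : Nonempty {g : G // E.line g ≠ C} := ⟨⟨g₁, hne⟩⟩
  obtain ⟨⟨g, hg⟩, hmax⟩ := Finite.exists_max fun g : {g : G // E.line g ≠ C} =>
    Nat.card ↥(C ⊓ E.line g.1 : AddSubgroup (Fin 2 → F))
  set D : AddSubgroup (Fin 2 → F) := C ⊓ E.line g with hDdef
  have hqC := card_C (F := F)
  have hqL := E.card_line g
  have hlt : Nat.card D < Nat.card F := by
    refine lt_of_le_of_ne (hqC ▸ AddSubgroup.card_le_of_le inf_le_left) fun e => ?_
    have h1 : D = C := AddSubgroup.eq_of_le_of_card_ge inf_le_left (by rw [e, hqC])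
    exact hg (AddSubgroup.eq_of_le_of_card_ge (h1.symm.le.trans inf_le_right)
      (by rw [hqC, hqL])).symm
  have hD2 : 2 ≤ Nat.card D := by
    refine le_trans ?_ (hmax ⟨g₁, hne⟩)
    haveI : Nontrivial ↥(C ⊓ E.line g₁ : AddSubgroup (Fin 2 → F)) :=
      ⟨⟨⟨v₀, hvC, hvL⟩, 0, fun e => hv0 (congrArg Subtype.val e)⟩⟩
    exact Finite.one_lt_card
  -- the elements of the root group fixing the second line
  let A₀ : Subgroup G :=
    { carrier := {a | a ∈ E.A ∧ ∀ x ∈ E.line g, E.η a x ∈ E.line g}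
      one_mem' := ⟨one_mem _, fun x hx => by rwa [E.one_app]⟩
      mul_mem' := fun {a b} ha hb => ⟨mul_mem ha.1 hb.1,
        fun x hx => by rw [E.comp]; exact ha.2 _ (hb.2 x hx)⟩
      inv_mem' := fun {a} ha => ⟨inv_mem ha.1, fun x hx => by
        have hmap : (E.line g).map (E.η a : (Fin 2 → F) →+ (Fin 2 → F)) = E.line g := by
          refine AddSubgroup.eq_of_le_of_card_ge ?_ (le_of_eq ?_)
          · rintro _ ⟨y, hy, rfl⟩
            exact ha.2 y hy
          · exact Nat.card_eq_of_bijective (fun y : E.line g =>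
              (⟨E.η a y, y.1, y.2, rfl⟩ : (E.line g).map (E.η a : (Fin 2 → F) →+ (Fin 2 → F))))
              ⟨fun u w h => Subtype.ext (E.app_inj a (congrArg Subtype.val h)),
                fun ⟨_, y, hy, e⟩ => ⟨⟨y, hy⟩, Subtype.ext e⟩⟩
        rw [← hmap] at hx
        obtain ⟨y, hy, rfl⟩ := hx
        show E.η a⁻¹ (E.η a y) ∈ E.line g
        rwa [E.inv_app]⟩ }
  have hA₀A : A₀ ≤ E.A := fun a ha => ha.1
  have hsame : ∀ a b : G, a ∈ E.A → b ∈ E.A → E.line (a * g) = E.line (b * g) → a⁻¹ * b ∈ A₀ := by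
    intro a b ha hb h
    refine ⟨mul_mem (inv_mem ha) hb, fun x hx => ?_⟩
    have h1 : E.η b x ∈ E.line (a * g) := h ▸ E.app_mem_line hx
    have h2 := E.app_mem_line (h := a⁻¹) h1
    rwa [← E.comp, inv_mul_cancel_left] at h2
  -- different translates meet in `D`
  have hDfix : ∀ a ∈ E.A, ∀ x ∈ D, x ∈ E.line (a * g) := fun a ha x hx => by
    have := E.app_mem_line (h := a) hx.2
    rwa [(E.A_kills ha).1 x hx.1] at this
  have hinter : ∀ a b : G, a ∈ E.A → b ∈ E.A → a⁻¹ * b ∉ A₀ →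
      ∀ x ∈ E.line (a * g), x ∈ E.line (b * g) → x ∈ D := by
    intro a b ha hb hab x hxa hxb
    set I : AddSubgroup (Fin 2 → F) := E.line (a * g) ⊓ E.line (b * g)
    have hDI : D ≤ I := fun y hy => ⟨hDfix a ha y hy, hDfix b hb y hy⟩
    have hg' : E.line ((a * g)⁻¹ * (b * g)) ≠ C := by
      intro e
      refine hab (hsame a b ha hb (AddSubgroup.ext fun y => ?_))
      have h1 : ∀ z, E.η ((a * g)⁻¹ * (b * g))⁻¹ z ∈ C ↔ z ∈ C := fun z => by
        rw [← E.mem_line, e]
      rw [E.mem_line, E.mem_line, ← h1 (E.η (a * g)⁻¹ y), ← E.comp,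
        show ((a * g)⁻¹ * (b * g))⁻¹ * (a * g)⁻¹ = (b * g)⁻¹ by group]
    have hI : Nat.card I ≤ Nat.card D := by
      refine le_trans ?_ (hmax ⟨_, hg'⟩)
      refine Nat.card_le_card_of_injective (fun y : I =>
        (⟨E.η (a * g)⁻¹ y, E.mem_line.1 y.2.1, E.app_mem_line y.2.2⟩ :
          ↥(C ⊓ E.line ((a * g)⁻¹ * (b * g)) : AddSubgroup (Fin 2 → F))))
        fun u w h => Subtype.ext (E.app_inj _ (congrArg Subtype.val h))
    exact (AddSubgroup.eq_of_le_of_card_ge hDI hI).symm ▸ (⟨hxa, hxb⟩ : x ∈ I)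
  -- the count
  set q := Nat.card F
  set U : AddSubgroup (Fin 2 → F) := C ⊔ E.line g
  have hcount : Nat.card (E.A : Subgroup G) * Nat.card D ≤ q * Nat.card ↥A₀ := by
    set K := A₀.subgroupOf E.A
    have hK : Nat.card ↥K = Nat.card ↥A₀ := Nat.card_congr (Subgroup.subgroupOfEquivOfLe hA₀A).toEquiv
    have hidx := Subgroup.card_eq_card_quotient_mul_card_subgroup K
    set m := Nat.card (↥E.A ⧸ K)
    let f : (↥E.A ⧸ K) × {c : E.line g // c.1 ∉ C} → {u : U // u.1 ∉ C} := fun z =>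
      ⟨⟨E.η (z.1.out : G) z.2.1.1, by
        rw [← sub_add_cancel (E.η (z.1.out : G) z.2.1.1) z.2.1.1]
        exact add_mem (AddSubgroup.mem_sup_left ((E.A_kills z.1.out.2).2 _))
          (AddSubgroup.mem_sup_right z.2.1.2)⟩, fun h => z.2.2 (by
          have h2 := sub_mem h ((E.A_kills z.1.out.2).2 z.2.1.1)
          rwa [sub_sub_cancel] at h2)⟩
    have hf : Function.Injective f := by
      rintro ⟨a, x, hx⟩ ⟨b, y, hy⟩ e
      have e' : E.η (a.out : G) x.1 = E.η (b.out : G) y.1 := congrArg (fun z => z.1.1) e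
      by_cases hab : a = b
      · subst hab
        exact Prod.ext rfl (Subtype.ext (Subtype.ext (E.app_inj _ e')))
      · exfalso
        refine hy ?_
        have hnot : (a.out : G)⁻¹ * (b.out : G) ∉ A₀ := fun h => hab (by
          rw [← QuotientGroup.out_eq' a, ← QuotientGroup.out_eq' b]
          exact QuotientGroup.eq.2 h)
        have h1 := hinter _ _ a.out.2 b.out.2 hnot _ (e' ▸ E.app_mem_line x.2 :
          E.η (b.out : G) y.1 ∈ E.line ((a.out : G) * g)) (E.app_mem_line y.2)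
        have h2 := sub_mem (AddSubgroup.mem_inf.1 h1).1 ((E.A_kills b.out.2).2 y.1)
        rwa [sub_sub_cancel] at h2
    have h1 := Nat.card_le_card_of_injective f hf
    rw [Nat.card_prod] at h1
    have hout : ∀ X : AddSubgroup (Fin 2 → F), Nat.card {c : X // c.1 ∉ C} +
        Nat.card ↥(X ⊓ C : AddSubgroup (Fin 2 → F)) = Nat.card X := fun X => by
      rw [← Nat.card_congr (show {c : X // c.1 ∈ C} ≃ ↥(X ⊓ C : AddSubgroup (Fin 2 → F)) from
        ⟨fun c => ⟨c.1.1, c.1.2, c.2⟩, fun c => ⟨⟨c.1, c.2.1⟩, c.2.2⟩, fun _ => rfl, fun _ => rfl⟩),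
        add_comm, ← Nat.card_sum, Nat.card_congr (Equiv.sumCompl fun c : X => c.1 ∈ C)]
    have e1 := hout (E.line g)
    rw [hqL, inf_comm, ← hDdef] at e1
    have e2 := hout U
    rw [inf_eq_right.2 (le_sup_left : C ≤ U), hqC] at e2
    have hU : Nat.card U * Nat.card D ≤ q * q := by
      let s : (C (F := F)) × E.line g → U := fun z => ⟨z.1.1 + z.2.1,
        add_mem (AddSubgroup.mem_sup_left z.1.2) (AddSubgroup.mem_sup_right z.2.2)⟩
      have hs : ∀ u : U, ∃ z, s z = u := fun u => by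
        obtain ⟨x, hx, y, hy, e⟩ := AddSubgroup.mem_sup.1 u.2
        exact ⟨(⟨x, hx⟩, ⟨y, hy⟩), Subtype.ext e⟩
      choose r hr using hs
      have hq2 : q * q = Nat.card ((C (F := F)) × E.line g) := by rw [Nat.card_prod, hqC, hqL]
      rw [hq2, ← Nat.card_prod]
      refine Nat.card_le_card_of_injective (fun z : U × D =>
        ((⟨(r z.1).1.1 + z.2.1, add_mem (r z.1).1.2 (AddSubgroup.mem_inf.1 z.2.2).1⟩ : (C (F := F))),
          (⟨(r z.1).2.1 - z.2.1, sub_mem (r z.1).2.2 (AddSubgroup.mem_inf.1 z.2.2).2⟩ : E.line g))) ?_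
      rintro ⟨u, d⟩ ⟨u', d'⟩ h
      obtain ⟨h1, h2⟩ := Prod.ext_iff.1 h
      have h1' : (r u).1.1 + d.1 = (r u').1.1 + d'.1 := congrArg Subtype.val h1
      have h2' : (r u).2.1 - d.1 = (r u').2.1 - d'.1 := congrArg Subtype.val h2
      have hu : u = u' := by
        rw [← hr u, ← hr u']
        refine Subtype.ext ?_
        show (r u).1.1 + (r u).2.1 = (r u').1.1 + (r u').2.1
        calc (r u).1.1 + (r u).2.1 = ((r u).1.1 + d.1) + ((r u).2.1 - d.1) := by abel
          _ = _ := by rw [h1', h2']; abel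
      subst hu
      exact Prod.ext rfl (Subtype.ext (add_left_cancel h1'))
    rw [hidx, hK]
    have hmD : m * Nat.card D ≤ q := by
      have hpos : 0 < q - Nat.card D := by omega
      refine Nat.le_of_mul_le_mul_right ?_ hpos
      have e3 : Nat.card {c : E.line g // c.1 ∉ C} = q - Nat.card D := by omega
      rw [e3] at h1
      calc m * Nat.card D * (q - Nat.card D) = Nat.card D * (m * (q - Nat.card D)) := by ring
        _ ≤ Nat.card D * Nat.card {u : U // u.1 ∉ C} := Nat.mul_le_mul_left _ h1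
        _ ≤ q * (q - Nat.card D) := by
          rw [show Nat.card {u : U // u.1 ∉ C} = Nat.card U - q by omega, Nat.mul_sub, Nat.mul_sub,
            mul_comm (Nat.card D) (Nat.card U), mul_comm (Nat.card D) q]
          omega
    calc m * Nat.card ↥A₀ * Nat.card D = m * Nat.card D * Nat.card ↥A₀ := by ring
      _ ≤ q * Nat.card ↥A₀ := Nat.mul_le_mul_right _ hmD
  rw [E.card_A] at hcount
  have hDA : Nat.card D ≤ Nat.card ↥A₀ := Nat.le_of_mul_le_mul_left hcount Nat.card_pos
  -- the conjugate root group, conjugated into the normalizer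
  let A' : Subgroup G := E.A.map (MulAut.conj g).toMonoidHom
  have hnorm : A₀ ≤ Subgroup.normalizer (A' : Set G) := by
    refine Subgroup.le_normalizer_iff.2 ?_
    rintro a ha _ ⟨b, hb, rfl⟩
    have hcl : ∀ y, y ∈ E.line g → E.η a⁻¹ y ∈ E.line g := fun y hy => (inv_mem ha : a⁻¹ ∈ A₀).2 y hy
    refine ⟨g⁻¹ * a * g * b * (g⁻¹ * a * g)⁻¹, E.mem_A_of_kills ⟨fun c hc => ?_, fun v => ?_⟩, by
      show g * _ * g⁻¹ = a * (g * b * g⁻¹) * a⁻¹; group⟩
    all_goals set k := g⁻¹ * a * g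
    · have hc' : E.η k⁻¹ c ∈ C := by
        rw [show k⁻¹ = g⁻¹ * a⁻¹ * g by simp only [k]; group, E.comp, E.comp]
        exact E.mem_line.1 (hcl _ ⟨c, hc, rfl⟩)
      rw [E.comp, E.comp, (E.A_kills hb).1 _ hc', E.app_inv]
    · have h := (E.A_kills hb).2 (E.η k⁻¹ v)
      rw [E.comp, E.comp, show E.η k (E.η b (E.η k⁻¹ v)) - v =
        E.η k (E.η b (E.η k⁻¹ v) - E.η k⁻¹ v) by rw [map_sub, E.app_inv]]
      rw [show k = g⁻¹ * a * g from rfl, E.comp, E.comp]
      exact E.mem_line.1 (ha.2 _ ⟨_, h, rfl⟩)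
  have hA₀p : IsPGroup p ↥A₀ := fun a => ⟨1, Subtype.ext (by
    rw [pow_one, SubmonoidClass.coe_pow, E.A_pow (hA₀A a.2), OneMemClass.coe_one])⟩
  have hA'p : IsPGroup p ↥A' := by
    rintro ⟨_, b, hb, rfl⟩
    refine ⟨1, Subtype.ext ?_⟩
    rw [pow_one, SubmonoidClass.coe_pow, OneMemClass.coe_one]
    show (MulAut.conj g b) ^ p = 1
    rw [← map_pow, E.A_pow hb, map_one]
  obtain ⟨h, hh⟩ := E.syl (A₀ ⊔ A') (hA₀p.to_sup_of_normal_right' hA'p hnorm)
  have hconj : ∀ x ∈ A₀ ⊔ A', ∃ σ : F ≃+* F, ∀ (a : F) y,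
      E.η (h * x * h⁻¹) (a • y) = σ a • E.η (h * x * h⁻¹) y := fun x hx => E.semilinear (hh x hx)
  -- the elements of the conjugate root group act linearly
  have hline : ∀ (a : F) y, y ∈ E.line (h * g) → a • y ∈ E.line (h * g) := by
    let η' : ↥E.A →* AddMonoid.End (Fin 2 → F) :=
      E.η.comp ((MulAut.conj (h * g)).toMonoidHom.comp E.A.subtype)
    have hη' : Function.Injective η' :=
      E.inj.comp ((MulAut.conj (h * g)).injective.comp E.A.subtype_injective)
    have hsl : ∀ b : ↥E.A, ∃ σ : F ≃+* F, ∀ (a : F) y, η' b (a • y) = σ a • η' b y := fun b => by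
      obtain ⟨σ, hσ⟩ := hconj (g * b * g⁻¹) (Subgroup.mem_sup_right ⟨b, b.2, rfl⟩)
      refine ⟨σ, fun a y => ?_⟩
      show E.η (h * g * b * (h * g)⁻¹) (a • y) = σ a • E.η (h * g * b * (h * g)⁻¹) y
      rw [show h * g * b * (h * g)⁻¹ = h * (g * b * g⁻¹) * h⁻¹ by group]
      exact hσ a y
    obtain ⟨-, heq⟩ := PMinFF.Big.semi_count E.prime_zero
      (fun a b : ↥E.A => Subtype.ext (E.A_comm a.2 b.2))
      (fun b => Subtype.ext (by rw [SubmonoidClass.coe_pow, E.A_pow b.2, OneMemClass.coe_one]))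
      η' hη' hsl
    have hfix : ∀ y, y ∈ E.line (h * g) → ∀ b : ↥E.A, η' b y = y := fun y hy b => by
      show E.η (h * g * b * (h * g)⁻¹) y = y
      rw [E.comp, E.comp, (E.A_kills b.2).1 _ (E.mem_line.1 hy), E.app_inv]
    haveI : Nontrivial ↥E.A := Finite.one_lt_card_iff_nontrivial.1 (by
      rw [E.card_A]; exact Finite.one_lt_card)
    have hfix' : ∀ y, (∀ b : ↥E.A, η' b y = y) → y ∈ E.line (h * g) := fun y hy => by
      obtain ⟨b, hb⟩ := exists_ne (1 : ↥E.A)
      rw [E.mem_line]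
      refine E.fix_eq b.2 (fun e => hb (Subtype.ext e)) (E.app_inj (h * g) ?_)
      rw [E.app_inv]
      have := hy b
      change E.η (h * g * b * (h * g)⁻¹) y = y at this
      rwa [E.comp, E.comp] at this
    have hc : Nat.card {y : Fin 2 → F // ∀ b, η' b y = y} = Nat.card F := by
      rw [← E.card_line (h * g)]
      exact Nat.card_congr (Equiv.subtypeEquivRight fun y => ⟨hfix' y, hfix y⟩)
    obtain ⟨-, hM⟩ := heq (by rw [hc, E.card_A, pow_two]) inferInstance
    intro a y hy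
    refine hfix' _ fun b => ?_
    obtain ⟨M, hM'⟩ := hM b
    rw [hM', Matrix.mulVec_smul, ← hM', hfix y hy b]
  -- the stabilizing elements move the field
  have hσ : ∀ a : ↥A₀, ∃ σ : F ≃+* F, ∀ (r : F) y,
      E.η (h * a * h⁻¹) (r • y) = σ r • E.η (h * a * h⁻¹) y :=
    fun a => hconj a (Subgroup.mem_sup_left a.2)
  choose σ hσ using hσ
  obtain ⟨c', hc'L, hc'C⟩ : ∃ c', c' ∈ E.line g ∧ c' ∉ C := by
    by_contra hno
    push Not at hno
    exact hg (AddSubgroup.eq_of_le_of_card_ge hno (by rw [hqC, hqL]))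
  let Φ : ↥A₀ →* RingAut F := MonoidHom.mk' σ fun a b => by
    obtain ⟨i, hi⟩ := Function.ne_iff.1 (show E.η (h * ((a * b : ↥A₀) : G) * h⁻¹) ![1, 0] ≠ 0 from
      fun e => one_ne_zero (congrFun (E.app_inj _ (e.trans (map_zero _).symm)) 0))
    refine RingEquiv.ext fun r => ?_
    have h1 := hσ (a * b) r ![1, 0]
    conv_lhs at h1 => rw [Subgroup.coe_mul, show h * ((a : G) * b) * h⁻¹ =
      h * (a : G) * h⁻¹ * (h * b * h⁻¹) by group, E.comp, hσ b, hσ a, ← E.comp,
      show h * (a : G) * h⁻¹ * (h * b * h⁻¹) = h * ((a : G) * b) * h⁻¹ by group, ← Subgroup.coe_mul]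
    exact (mul_right_cancel₀ hi (congrFun h1 i)).symm
  have hΦ : Function.Injective Φ := by
    refine (injective_iff_map_eq_one Φ).2 fun a ha => ?_
    by_contra ha1
    have ha1' : (a : G) ≠ 1 := fun e => ha1 (Subtype.ext e)
    have hlin : ∀ (r : F) y, E.η (h * a * h⁻¹) (r • y) = r • E.η (h * a * h⁻¹) y := fun r y => by
      rw [hσ a, show σ a = 1 from ha]; rfl
    set v := E.η h c'
    have hv0 : v ≠ 0 := fun e => hc'C (by
      rw [E.app_inj h (e.trans (map_zero _).symm)]; exact zero_mem _)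
    obtain ⟨i, hi⟩ := Function.ne_iff.1 hv0
    have hall : ∀ y ∈ E.line (h * g), ∃ r : F, y = r • v := by
      have hle : (AddMonoidHom.mk' (fun r : F => r • v) fun a b => add_smul a b v).range ≤
          E.line (h * g) := by
        rintro _ ⟨r, rfl⟩
        exact hline r v (E.app_mem_line hc'L)
      have heq := AddSubgroup.eq_of_le_of_card_ge hle (by
        rw [E.card_line]
        refine Nat.card_le_card_of_injective (fun r : F => ⟨r • v, r, rfl⟩) fun a b e => ?_
        exact mul_right_cancel₀ hi (congrFun (congrArg Subtype.val e) i))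
      intro y hy
      rw [← heq] at hy
      obtain ⟨r, hr⟩ := hy
      exact ⟨r, hr.symm⟩
    obtain ⟨μ, hμ⟩ := hall (E.η (h * a * h⁻¹) v) (by
      rw [show E.η (h * a * h⁻¹) v = E.η h (E.η a c') by rw [E.comp, E.comp, E.inv_app]]
      exact E.app_mem_line (a.2.2 c' hc'L))
    have hpow : ∀ n : ℕ, E.η ((h * a * h⁻¹) ^ n) v = μ ^ n • v := fun n => by
      induction n with
      | zero => rw [pow_zero, E.one_app, pow_zero, one_smul]
      | succ n ih => rw [pow_succ', E.comp, ih, hlin, hμ, smul_smul, ← pow_succ]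
    have hp1 : (h * (a : G) * h⁻¹) ^ p = 1 := by
      rw [conj_pow, E.A_pow (hA₀A a.2), mul_one, mul_inv_cancel]
    haveI : CharP F p := (CharP.charP_iff_prime_eq_zero hp.out).2 E.prime_zero
    have hμ1 : μ = 1 := by
      have e := hpow p
      rw [hp1, E.one_app] at e
      have e' : μ ^ p = 1 := mul_right_cancel₀ hi ((congrFun e i).symm.trans (one_mul _).symm)
      exact sub_eq_zero.1 (pow_eq_zero_iff hp.out.ne_zero |>.1 (by
        rw [sub_pow_char, e', one_pow, sub_self]))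
    rw [hμ1, one_smul, show E.η (h * a * h⁻¹) v = E.η h (E.η a c') by
      rw [E.comp, E.comp, E.inv_app]] at hμ
    exact hc'C (E.fix_eq (hA₀A a.2) ha1' (E.app_inj h hμ))
  let Γ : Subgroup (RingAut F) := Φ.range
  haveI : Finite ↥Γ := Finite.of_surjective _ Φ.rangeRestrict_surjective
  letI : Fintype ↥Γ := Fintype.ofFinite _
  haveI : FaithfulSMul ↥Γ F := ⟨fun {a b} e => Subtype.ext (RingEquiv.ext fun x => e x)⟩
  let K : Subfield F := FixedPoints.subfield ↥Γ F
  set k := Nat.card K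
  have hqk : Nat.card F = k ^ Nat.card ↥A₀ := by
    rw [Module.natCard_eq_pow_finrank (K := K), FixedPoints.finrank_eq_card,
      ← Nat.card_eq_fintype_card (α := ↥Γ), ← Nat.card_congr (MonoidHom.ofInjective hΦ).toEquiv]
  have hle : Nat.card F ≤ k * k := by
    refine le_trans ?_ (fix_le_sq (fun a : ↥A₀ => fun y => E.η (h * a * h⁻¹) y) σ
      (fun a x y => map_add _ x y) hσ K fun r hr => by rintro ⟨_, a, rfl⟩; exact hr a)
    rw [← card_C (F := F)]
    refine Nat.card_le_card_of_injective (fun c => ⟨E.η h c.1, fun a => ?_⟩)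
      fun x y e => Subtype.ext (E.app_inj h (congrArg Subtype.val e))
    show E.η (h * (a : G) * h⁻¹) (E.η h c.1) = E.η h c.1
    rw [E.comp, E.comp, E.inv_app, (E.A_kills (hA₀A a.2)).1 _ c.2]
  have hk2 : 2 ≤ k := Finite.one_lt_card
  have hA2 : Nat.card ↥A₀ ≤ 2 := by
    rw [hqk, ← pow_two] at hle
    exact (Nat.pow_le_pow_iff_right (by omega)).1 hle
  have hD : Nat.card D = 2 := le_antisymm (hDA.trans hA2) hD2
  obtain ⟨a, ha, ha1⟩ : ∃ a ∈ A₀, a ≠ 1 := by
    haveI : Nontrivial ↥A₀ := Finite.one_lt_card_iff_nontrivial.1 (by omega)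
    obtain ⟨a, ha⟩ := exists_ne (1 : ↥A₀)
    exact ⟨a, a.2, fun e => ha (Subtype.ext e)⟩
  let t : E.line g →+ D := AddMonoidHom.mk'
    (fun c => ⟨E.η a c.1 - c.1, AddSubgroup.mem_inf.2 ⟨(E.A_kills (hA₀A ha)).2 _, sub_mem (ha.2 _ c.2) c.2⟩⟩)
    fun x y => Subtype.ext (by simp only [AddSubgroup.coe_add, map_add]; abel)
  have hker : Nat.card t.ker ≤ Nat.card D :=
    Nat.card_le_card_of_injective (fun c => (⟨c.1.1, E.fix_eq (hA₀A ha) ha1
      (sub_eq_zero.1 (congrArg Subtype.val (c.2 : t c.1 = 0))), c.1.2⟩ : D))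
      fun x y e => Subtype.ext (Subtype.ext (congrArg (fun z : D => z.1) e))
  have h4 : Nat.card F ≤ 4 := by
    show q ≤ 4
    rw [← hqL, AddSubgroup.card_eq_card_quotient_mul_card_addSubgroup t.ker,
      Nat.card_congr (QuotientAddGroup.quotientKerEquivRange t).toEquiv]
    calc Nat.card t.range * Nat.card t.ker ≤ Nat.card D * Nat.card D :=
          Nat.mul_le_mul (Nat.card_le_card_of_injective _ Subtype.val_injective) hker
      _ = 4 := by rw [hD]
  obtain ⟨j, hj⟩ : Nat.card D ∣ Nat.card (E.line g) := AddSubgroup.card_dvd_of_le inf_le_right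
  rw [hqL, hD] at hj
  omega

end Emb

end CfsgLib.SLTwoEmbedded
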